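import Mathlib
import Groth.Agent.KrullAki.Basic

/-! Krull–Akizuki in finite extensions of the fraction field. -/

open scoped Pointwise

universe u v

namespace Groth.Agent.KrullAkiExt

variable {R : Type u} [CommRing R] [IsDomain R] [IsNoetherianRing R] [Ring.KrullDimLE 1 R]
  {K : Type u} [Field K] [Algebra R K] [IsFractionRing R K]

theorem isFiniteLength_quotient_smul (n : ℕ) :
    ∀ (V : Type u) [AddCommGroup V] [Module K V] [Module R V] [IsScalarTower R K V] [FiniteDimensional K V],
      Module.finrank K V ≤ n → ∀ (M : Type u) [AddCommGroup M] [Module R M] (f : M →ₗ[R] V),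
        Function.Injective f → ∀ a : R, a ≠ 0 → IsFiniteLength R (M ⧸ (a • (⊤ : Submodule R M))) := by
  induction n with
  | zero =>
    intro V _ _ _ _ _ hn M _ _ f hf a _
    haveI : Subsingleton V := Module.finrank_zero_iff.mp (Nat.le_zero.mp hn)
    haveI : Subsingleton M := hf.subsingleton
    exact IsFiniteLength.of_subsingleton
  | succ n ih =>
    intro V _ _ _ _ _ hn M _ _ f hf a ha
    rcases subsingleton_or_nontrivial V with hV | hV
    · haveI : Subsingleton M := hf.subsingleton
      exact IsFiniteLength.of_subsingleton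
    obtain ⟨v, hv⟩ := exists_ne (0 : V)
    obtain ⟨φ, hφ⟩ := Module.Projective.exists_dual_ne_zero K hv
    let g : M →ₗ[R] K := (φ.restrictScalars R).comp f
    let M'' := LinearMap.range g
    let M' := LinearMap.ker g
    let g' : M →ₗ[R] M'' := g.rangeRestrict
    have hrank : Module.finrank K (LinearMap.ker φ) ≤ n := by
      have := Submodule.finrank_lt (s := LinearMap.ker φ) (fun h => hφ (by
        have : v ∈ LinearMap.ker φ := h ▸ Submodule.mem_top
        exact this))
      omega
    let f' : M' →ₗ[R] LinearMap.ker φ :=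
      { toFun := fun x => ⟨f x, x.2⟩
        map_add' := fun x y => Subtype.ext (map_add f x.1 y.1)
        map_smul' := fun r x => Subtype.ext (map_smul f r x.1) }
    have h1 := ih (LinearMap.ker φ) hrank M' f' (fun x y h => Subtype.ext (hf (congrArg Subtype.val h))) a ha
    have h2 : IsFiniteLength R (M'' ⧸ (a • (⊤ : Submodule R M''))) :=
      Module.length_ne_top_iff.1 (ne_top_of_le_ne_top
        (Module.length_ne_top_iff.2 (isFiniteLength_quotient_span_singleton R (mem_nonZeroDivisors_of_ne_zero ha)))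
        (Groth.Agent.KrullAki.length_quotient_le ha M''.subtype Subtype.val_injective))
    obtain ⟨_, _⟩ := isFiniteLength_iff_isNoetherian_isArtinian.1 h1
    obtain ⟨_, _⟩ := isFiniteLength_iff_isNoetherian_isArtinian.1 h2
    let i : (M' ⧸ (a • (⊤ : Submodule R M'))) →ₗ[R] M ⧸ (a • (⊤ : Submodule R M)) :=
      Submodule.mapQ _ _ M'.subtype fun x hx => by
        obtain ⟨y, _, rfl⟩ := (Submodule.mem_smul_pointwise_iff_exists _ _ _).1 hx
        exact (Submodule.mem_smul_pointwise_iff_exists _ _ _).2 ⟨y, trivial, (map_smul M'.subtype a y).symm⟩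
    let p : (M ⧸ (a • (⊤ : Submodule R M))) →ₗ[R] M'' ⧸ (a • (⊤ : Submodule R M'')) :=
      Submodule.mapQ _ _ g' fun x hx => by
        obtain ⟨y, _, rfl⟩ := (Submodule.mem_smul_pointwise_iff_exists _ _ _).1 hx
        exact (Submodule.mem_smul_pointwise_iff_exists _ _ _).2 ⟨g' y, trivial, (map_smul g' a y).symm⟩
    have hex : LinearMap.range i = LinearMap.ker p := by
      apply le_antisymm
      · rintro _ ⟨x, rfl⟩
        obtain ⟨x, rfl⟩ := Submodule.Quotient.mk_surjective _ x
        rw [LinearMap.mem_ker]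
        show Submodule.Quotient.mk (g' x.1) = 0
        rw [show g' x.1 = 0 from Subtype.ext x.2]
        rfl
      · intro x hx
        obtain ⟨x, rfl⟩ := Submodule.Quotient.mk_surjective _ x
        obtain ⟨y, _, hy⟩ := (Submodule.mem_smul_pointwise_iff_exists _ _ _).1
          ((Submodule.Quotient.mk_eq_zero _).1 hx)
        obtain ⟨z, rfl⟩ := g.surjective_rangeRestrict y
        have hk : x - a • z ∈ M' := by
          rw [LinearMap.mem_ker, map_sub, map_smul, sub_eq_zero]
          exact (congrArg Subtype.val hy).symm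
        refine ⟨Submodule.Quotient.mk ⟨x - a • z, hk⟩, ?_⟩
        refine (Submodule.Quotient.eq _).2 ((Submodule.mem_smul_pointwise_iff_exists _ _ _).2 ⟨-z, trivial, ?_⟩)
        show a • -z = x - a • z - x
        rw [smul_neg]
        abel
    haveI := isNoetherian_of_range_eq_ker i p hex
    haveI := isArtinian_of_range_eq_ker i p hex
    exact isFiniteLength_iff_isNoetherian_isArtinian.2 ⟨inferInstance, inferInstance⟩

variable (L : Type u) [Field L] [Algebra K L] [FiniteDimensional K L] [Algebra R L] [IsScalarTower R K L]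
  (A : Type u) [CommRing A] [Algebra R A] [Algebra A L] [IsScalarTower R A L]

include R K in
theorem isFiniteLength_quotient_map (hA : Function.Injective (algebraMap A L)) {a : R} (ha : a ≠ 0) :
    IsFiniteLength R (A ⧸ (a • (⊤ : Submodule R A))) :=
  isFiniteLength_quotient_smul (K := K) _ L le_rfl A (IsScalarTower.toAlgHom R A L).toLinearMap hA a ha

include R K in
theorem exists_ne_zero_mem [Nontrivial A] (hA : Function.Injective (algebraMap A L)) {J : Ideal A} (hJ : J ≠ ⊥) :
    ∃ a : R, a ≠ 0 ∧ algebraMap R A a ∈ J := by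
  haveI : IsDomain A := hA.isDomain (algebraMap A L)
  obtain ⟨x, hx, hx0⟩ := Submodule.exists_mem_ne_zero_of_ne_bot hJ
  have halgL : IsAlgebraic R (algebraMap A L x) :=
    (IsFractionRing.isAlgebraic_iff R K L).mpr (Algebra.IsAlgebraic.isAlgebraic (R := K) _)
  have halg : IsAlgebraic R x := (isAlgebraic_algebraMap_iff hA).mp halgL
  obtain ⟨a, ha, c, hc⟩ := halg.exists_nonzero_dvd (mem_nonZeroDivisors_of_ne_zero hx0)
  exact ⟨a, ha, hc ▸ J.mul_mem_right c hx⟩

include R K in
theorem isNoetherianRing_of_injective (hA : Function.Injective (algebraMap A L)) : IsNoetherianRing A := by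
  haveI : IsDomain A := hA.isDomain (algebraMap A L)
  refine isNoetherianRing_iff.2 ⟨fun J => ?_⟩
  by_cases hJ : J = ⊥
  · subst hJ; exact Submodule.fg_bot
  obtain ⟨a, ha, haJ⟩ := exists_ne_zero_mem (R := R) (K := K) L A hA hJ
  obtain ⟨hN, -⟩ := isFiniteLength_iff_isNoetherian_isArtinian.1 (isFiniteLength_quotient_map (K := K) L A hA ha)
  let Q : Submodule R A := a • (⊤ : Submodule R A)
  have h1 : ((J.restrictScalars R).map Q.mkQ).FG := IsNoetherian.noetherian _
  classical
  obtain ⟨t, ht⟩ := h1
  have hts : (t : Set (A ⧸ Q)) ⊆ Q.mkQ '' (J : Set A) := fun x hx => by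
    have : x ∈ Submodule.span R (t : Set _) := Submodule.subset_span hx
    rw [ht] at this
    exact this
  obtain ⟨s, hsJ, hst⟩ := Finset.subset_set_image_iff.1 hts
  refine ⟨insert (algebraMap R A a) s, le_antisymm (Submodule.span_le.2 ?_) fun x hx => ?_⟩
  · rw [Finset.coe_insert]
    exact Set.insert_subset haJ hsJ
  set T := Submodule.span A ((insert (algebraMap R A a) s : Finset A) : Set A) with hT
  have hx' : Q.mkQ x ∈ (T.restrictScalars R).map Q.mkQ := by
    have : Q.mkQ x ∈ Submodule.span R (t : Set _) := ht ▸ ⟨x, hx, rfl⟩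
    refine Submodule.span_le.2 ?_ this
    rw [← hst, Finset.coe_image]
    rintro _ ⟨y, hy, rfl⟩
    exact ⟨y, Submodule.subset_span (Finset.mem_coe.2 (Finset.mem_insert_of_mem hy)), rfl⟩
  obtain ⟨y, hy, hyx⟩ := hx'
  obtain ⟨z, -, hz⟩ := (Submodule.mem_smul_pointwise_iff_exists _ _ _).1 ((Submodule.Quotient.eq _).1 hyx)
  have hzT : a • z ∈ T := by
    rw [Algebra.smul_def, mul_comm]
    exact T.smul_mem z (Submodule.subset_span (Finset.mem_coe.2 (Finset.mem_insert_self _ _)))
  rw [hz] at hzT
  have := T.sub_mem hy hzT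
  rwa [sub_sub_cancel] at this

include R K in
theorem isArtinian_quotient (hA : Function.Injective (algebraMap A L)) {J : Ideal A} {a : R} (ha : a ≠ 0)
    (haJ : algebraMap R A a ∈ J) : IsFiniteLength R (A ⧸ J) := by
  obtain ⟨_, _⟩ := isFiniteLength_iff_isNoetherian_isArtinian.1 (isFiniteLength_quotient_map (K := K) L A hA ha)
  let g : A →ₗ[R] A ⧸ J := (Ideal.Quotient.mkₐ R J).toLinearMap
  have hle : a • (⊤ : Submodule R A) ≤ LinearMap.ker g := fun x hx => by
    obtain ⟨y, _, rfl⟩ := (Submodule.mem_smul_pointwise_iff_exists _ _ _).1 hx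
    rw [LinearMap.mem_ker]
    show Ideal.Quotient.mk J (a • y) = 0
    rw [Ideal.Quotient.eq_zero_iff_mem, Algebra.smul_def]
    exact J.mul_mem_right _ haJ
  have hs : Function.Surjective (Submodule.liftQ _ g hle) := fun z => by
    obtain ⟨z, rfl⟩ := Ideal.Quotient.mk_surjective z
    exact ⟨Submodule.Quotient.mk z, rfl⟩
  exact isFiniteLength_iff_isNoetherian_isArtinian.2 ⟨isNoetherian_of_surjective _ (LinearMap.range_eq_top.2 hs),
    isArtinian_of_surjective _ _ hs⟩

end Groth.Agent.KrullAkiExt
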